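import Cfsg.Agent.Lib.CosetTable.Sound
import Cfsg.Agent.Lib.CosetTable.SuzG2SimpleMax2.Data

/-! Generated certificate data for the coset table `SuzG2SimpleMax2`. -/

namespace Cfsg.Agent.Lib.CosetTable.SuzG2SimpleMax2

open Cfsg.Agent.Lib.CosetTable

noncomputable def streams0 : List (ℕ × ℕ) := [(12, 0xa000001000007000008000001000006000006000001000005000004000001000004000002000001000003000000000001000002000000000001000000000001000000000001000000000001000000000001000000000001)]

theorem run0 : cert.goStreams streams0 0 = true := by decide +kernel

theorem part1 (h : cert.Upto 0) : cert.Upto 12 :=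
  (h).step (b := 12) run0 rfl

end Cfsg.Agent.Lib.CosetTable.SuzG2SimpleMax2
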